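/-
Certificate data of a coset enumeration.
-/
import Cfsg.Agent.Lib.CosetEnum.SuzXB.Data

set_option autoImplicit false
set_option maxRecDepth 1000000

namespace CfsgLib.CosetEnum.SuzXB

open CfsgLib.CosetEnum

/-- Completion of the rows from 0. -/
def rows0 : List (List ℕ) := [[0x36c400000002, 0x36cc00001002, 0x36c500002002, 0x3001, 0x4001], [0x36c900009002, 0x36ca0000f002, 0x36a200016002, 0x3001, 0x17001], [0x36c20000b002, 0x36c100011002, 0x36b600015002, 0x18001, 0x4001], [0x36cb00028002, 0x36c800039002, 0x368400047002, 0x48001, 0x17001], [0x36b80002a002, 0x36c00003b002, 0x36ba0004a002, 0x18001, 0x49001], [0x36c30006e002, 0x367100094002, 0x369c000b3002, 0x48001, 0x49001]]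

theorem rows0_ok : okRows data table 14029 0 rows0 = true := by decide +kernel

theorem rows0_len : rows0.length = 6 := by decide +kernel

end CfsgLib.CosetEnum.SuzXB
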